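import Cfsg.Agent.Omega.NOThreeL.Low.LA.Setup
import Cfsg.Agent.Omega.NOThreeL.Low.Defs

/-!
# THEOREM LOW (#19191): the parts P1, P2, P3

* `p1 : StP1`, `p2 : StP2`, `p3 : StP3`.
-/

set_option autoImplicit false

namespace Cfsg.Agent.Omega.NOThreeL.Low

open Subgroup Cfsg
open Cfsg.Agent.ZN hiding mem_zc le_o2 le_normalizer_o2 zl_le
open Cfsg.Agent.Omega.MinPar Cfsg.Agent.Omega.Frame
open Cfsg.Agent.Omega.FrameNOFF
open Cfsg.Agent.Omega.NoFF.Basic (conj_conj mem_conj conj_le_iff conj_le_centralizer comm_symm comm_mono)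
open Cfsg.Agent.Omega.NOne.Flat (EE WW Hyp)
open Cfsg.Agent.Omega.NOThreeL.Basic (DataZ CaseA WP zl_le_WP)
open Cfsg.Agent.Omega.NOThreeL.Star (YS)
open Cfsg.Agent.Omega.NOThreeL.Merge (MZ)
open Cfsg.Agent.MinSimple.VModule (mem_zc le_centralizer_zc)
open scoped Pointwise

universe u

/-- **P1** -/
theorem p1 : StP1.{u} := by
  intro G _ _ hG S hF D hlow
  obtain ⟨F, hyp, hWS, hnE⟩ := exists_frame hG hF D hlow
  have root := root_YS hG hF D
  refine ⟨_, F, hyp, root.V_le_S, root.L_le.trans (NO3b.Wc.ML_le_norm_V _ _), root.zl_le_V, hWS, ?_, hnE⟩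
  rw [← hyp.cent_VW]
  refine le_inf NO3b.Wc.Root.zc_le_V (comm_symm (hWS.trans ?_))
  exact fun s hs => mem_centralizer_iff.mpr fun z hz => ((mem_zc.mp hz).2.1 s hs).symm

/-- **P3** -/
theorem p3 : StP3.{u} := by
  intro G _ _ hG S D hA V F hyp P Q hP hQ g g' q e hq hne hV
  have h1 := splus D hA hQ hq hne
  rw [conj_WP_congr e] at h1
  exact le_inf hV ((le_inf (conj_le_iff.2 (zl_le_WP hP)) (hV.trans hyp.V_le_X)).trans h1)

section sup

variable {G : Type u} [Group G] [Finite G] {S : Sylow 2 G} {M V F : Subgroup G} {n : ℕ}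

omit [Finite G] in
/-- `B` centralises `F`. -/
theorem Fr.B_cent_F : BB M (S : Subgroup G) V F n ≤ centralizer (F : Set G) :=
  Fr.B_le_W.trans Hyp.W_le_X

theorem Fr.sup_comm (h : Fr S M V F n) : BB M (S : Subgroup G) V F n ⊔ F ≤
    centralizer ((BB M (S : Subgroup G) V F n ⊔ F : Subgroup G) : Set G) := by
  have hFF : F ≤ centralizer (F : Set G) := h.hyp.F_le_V.trans h.hyp.V_le_X
  refine sup_le (comm_symm (sup_le h.B_comm (comm_symm Fr.B_cent_F)))
    (comm_symm (sup_le Fr.B_cent_F hFF))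

theorem Fr.sup_sq (h : Fr S M V F n) : ∀ b ∈ BB M (S : Subgroup G) V F n ⊔ F, b ^ 2 = 1 := by
  intro b hb
  have h1 : BB M (S : Subgroup G) V F n ≤ normalizer (F : Set G) :=
    Fr.B_cent_F.trans (centralizer_le_normalizer _)
  rw [← SetLike.mem_coe, Subgroup.coe_mul_of_left_le_normalizer_right _ _ h1, Set.mem_mul] at hb
  obtain ⟨a, ha, f, hf, rfl⟩ := hb
  have hcm : Commute a f := (mem_centralizer_iff.1 (Fr.B_cent_F ha) f hf).symm
  rw [hcm.mul_pow, h.B_sq a ha, h.hyp.sq f (h.hyp.F_le_V hf), one_mul]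

omit [Finite G] in
theorem Fr.X_norm_sup : centralizer (F : Set G) ≤
    normalizer ((BB M (S : Subgroup G) V F n ⊔ F : Subgroup G) : Set G) := by
  intro x hx
  have h1 : MulAut.conj x • (BB M (S : Subgroup G) V F n ⊔ F) = BB M (S : Subgroup G) V F n ⊔ F := by
    rw [Subgroup.smul_sup, Fr.conj_BB hx, NOne.Flat.conj_eq_of_cent hx]
  rw [mem_normalizer_iff]
  intro b
  constructor
  · intro hb
    rw [← h1, mem_conj]
    simpa [mul_assoc] using hb
  · intro hb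
    rw [← h1, mem_conj] at hb
    simpa [mul_assoc] using hb

end sup

theorem sit_of {G : Type u} [Group G] [Finite G] (hG : Ctx G) {S : Sylow 2 G} (D : DataZ (S : Subgroup G))
    (hA : ¬ CaseA (S : Subgroup G)) {V F P R : Subgroup G} {k : ℕ} {m : G} (hVS : V ≤ (S : Subgroup G))
    (h : Fr S (YS (S : Subgroup G)) V F (k + 1)) (hP : IsParS (S : Subgroup G) P)
    (hPE : ¬ zl (S : Subgroup G) P ≤ EE V F) (hR : IsParS (S : Subgroup G) R) (hm : m ∈ R)
    (hCm : Ch (YS (S : Subgroup G)) (S : Subgroup G) (WW V F) k m) :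
    Sit S V F (BB (YS (S : Subgroup G)) (S : Subgroup G) V F (k + 1) ⊔ F) P R m := by
  have hmM : m ∈ YS (S : Subgroup G) := h.mem_M hCm
  have hkk : k < k + 1 := Nat.lt_succ_self k
  have c1 : BB (YS (S : Subgroup G)) (S : Subgroup G) V F (k + 1) ⊔ F ≤ WW V F :=
    sup_le Fr.B_le_W (h.hyp.F_le_E.trans Hyp.E_le_W)
  have c2 : BB (YS (S : Subgroup G)) (S : Subgroup G) V F (k + 1) ⊔ F ≤ (S : Subgroup G) :=
    sup_le h.B_le_S (h.hyp.F_le_V.trans hVS)
  have c3 : WW V F ⊓ centralizer ((BB (YS (S : Subgroup G)) (S : Subgroup G) V F (k + 1) ⊔ F :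
      Subgroup G) : Set G) ≤ (S : Subgroup G) := by
    refine le_trans (inf_le_inf_left _ (centralizer_le ?_)) h.cent_le_S
    exact SetLike.coe_subset_coe.2 le_sup_left
  have c4 : MulAut.conj m • zl (S : Subgroup G) P ≤
      BB (YS (S : Subgroup G)) (S : Subgroup G) V F (k + 1) ⊔ F :=
    (Fr.le_BB' (h.mem_Gd_of_lt hkk hCm hP)).trans le_sup_left
  have c5 : zl (S : Subgroup G) R ≤ BB (YS (S : Subgroup G)) (S : Subgroup G) V F (k + 1) ⊔ F := by
    have h1 := Fr.le_BB' (h.mem_Gd_of_lt hkk hCm hR)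
    rw [zl_conj_eq hm] at h1
    exact h1.trans le_sup_left
  refine ⟨hG, D, h.hyp, hVS, hP, hR, h.zl_le_V hP, hPE, le_sup_right, c1, Fr.X_norm_sup, h.sup_comm, h.sup_sq,
    c2, c3, h.zl_le_V hR, c5, hm, h.line_le_V hmM hP, c4, ?_⟩
  intro g g' q Q hg e hQ hq
  exact spp D hA h.hyp hP (h.zl_le_V hP) hPE hg e hQ hq

/-- **P2** -/
theorem p2 : StP2.{u} := by
  intro G _ _ hG S hF D hA V F hf
  have hZV : zc (S : Subgroup G) ≤ V := hf.ZF.trans hf.flat.F_le_V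
  obtain ⟨F', n, P, h, hn, hP, hPE⟩ := exists_fr_of hG hF D hA hf.flat hf.nV hZV hf.WS hf.nle
  obtain ⟨k, rfl⟩ : ∃ k, n = k + 1 := ⟨n - 1, by omega⟩
  obtain ⟨R, hR, m, hm, hCm⟩ := h.exists_adj rfl
  exact ⟨V, F', _, P, R, m, sit_of hG D hA hf.VS h hP hPE hR hm hCm⟩

end Cfsg.Agent.Omega.NOThreeL.Low
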