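import Cfsg.Agent.Omega.NOThreeL.NF.Final
import Cfsg.Agent.Omega.NOThreeL.MergeNF
import Cfsg.Agent.Omega.NOThreeL.RTools.Two
import Cfsg.Agent.Omega.Spread.Plug

/-!
# THEOREM LOW (#19191, helper597; #19093, helper876), the front: galleries of good lines

`S` a Sylow 2-subgroup, `M ≤ N_G(V)` a group containing all `P ∈ P*(S)`, `F` a maximal bad subgroup of `V`
(`Flat.Hyp V F`), `X = C_G(F)`, `R = O₂(X)`, `E = V ∩ R = EE V F`, `W = ⟨E^X⟩ = WW V F`.

A *chamber* is an element `g` of `M` (standing for `S^g = MulAut.conj g • S`); its lines are `V_P^g`,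
`P ∈ P*(S)`; a line is *good* if it is contained in `E`.

* `Ch M S W n g` : `g` is at gallery distance at most `n` from a chamber `a ∈ M` with `W ≤ S^a`;
* `Fr S M V F n` : all lines of chambers at distance `< n` are good, `1` is at distance `≤ n`;
* `Fr.gal` : **(GAL)** good lines `l`, `l'` at distance `≤ n`, `x ∈ X`: `[l^x, l'] = 1`, `l^x ≤ S^g`;
* `BB M S V F n` : the group generated by the `X`-conjugates of the good lines of chambers at distance `≤ n`;
  `Fr.B_comm`, `Fr.B_sq`, `Fr.X_norm_B`, `Fr.B_le_W`, `Fr.B_le_conj`, `Fr.cent_le_conj`.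
-/

set_option autoImplicit false

namespace Cfsg.Agent.Omega.NOThreeL.Low

open Subgroup Cfsg Cfsg.Agent.ZN Cfsg.Agent.Omega.MinPar Cfsg.Agent.Omega.Frame
open Cfsg.Agent.Omega.FrameNOFF
open Cfsg.Agent.Omega.NoFF.Basic (V conj_conj mem_conj conj_le_iff conj_le_centralizer comm_symm comm_mono
  Z_le_V V_le conj_V_mul Sys Gal conj_Z_le conj_self)
open Cfsg.Agent.Omega.NOne.Flat (EE WW Bad)
open Cfsg.Agent.Omega.NOne.NearFF (c)
open Cfsg.Agent.MinSimple.VModule (zl_le le_normalizer_zl zc_le_zl zc_le zl_le_zc o2_isPGroup le_normalizer_o2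
  mem_zc le_o2 o2_le le_centralizer_zc zc_sq)
open scoped Pointwise

universe u

variable {G : Type u} [Group G]

/-- `g` is at distance at most `n` from a chamber `a ∈ M` with `W ≤ S^a`. -/
def Ch (M S W : Subgroup G) (n : ℕ) (g : G) : Prop :=
  ∃ a, a ∈ M ∧ W ≤ MulAut.conj a • S ∧ Gal (PS S) n a g

/-- The good lines of the chambers at distance `≤ n`. -/
def Gd (M S V F : Subgroup G) (n : ℕ) : Set (Subgroup G) :=
  {l | ∃ j ≤ n, ∃ g, Ch M S (WW V F) j g ∧ ∃ P, IsParS S P ∧ l = MulAut.conj g • zl S P ∧ l ≤ EE V F}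

/-- `B`: generated by the `X`-conjugates of the good lines of the chambers at distance `≤ n`. -/
def BB (M S V F : Subgroup G) (n : ℕ) : Subgroup G :=
  sSup {A | ∃ l ∈ Gd M S V F n, ∃ x ∈ centralizer (F : Set G), A = MulAut.conj x • l}

/-- **The front**: all lines of chambers at distance `< n` are good, `1` is at distance `≤ n`. -/
structure Fr [Finite G] (S : Sylow 2 G) (M V F : Subgroup G) (n : ℕ) : Prop where
  hc : IsCharacteristicTwoType G
  noff : ¬ FF (S : Subgroup G)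
  hyp : NOne.Flat.Hyp V F
  PM : ∀ P, IsParS (S : Subgroup G) P → P ≤ M
  MV : M ≤ normalizer (V : Set G)
  ZV : zc (S : Subgroup G) ≤ V
  least : ∀ j < n, ∀ g, Ch M (S : Subgroup G) (WW V F) j g → ∀ P, IsParS (S : Subgroup G) P →
    MulAut.conj g • zl (S : Subgroup G) P ≤ EE V F
  one : Ch M (S : Subgroup G) (WW V F) n 1

/-! ### chambers -/

section ch

variable {M S W : Subgroup G}

theorem Ch.mul {n : ℕ} {g : G} (h : Ch M S W n g) {P : Subgroup G} (hP : IsParS S P) {p : G} (hp : p ∈ P) :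
    Ch M S W (n + 1) (g * p) := by
  obtain ⟨a, ha, haW, hg⟩ := h
  exact ⟨a, ha, haW, hg.step hP hp⟩

theorem Ch.mem (hM : ∀ P, IsParS S P → P ≤ M) {n : ℕ} {g : G} (h : Ch M S W n g) : g ∈ M := by
  obtain ⟨a, ha, -, hg⟩ := h
  induction hg with
  | zero => exact ha
  | step _ hP hp ih => exact mul_mem (ih ha) (hM _ hP hp)

theorem Ch.zero_le {g : G} (h : Ch M S W 0 g) : W ≤ MulAut.conj g • S := by
  obtain ⟨a, _, haW, hg⟩ := h
  cases hg
  exact haW

/-- the last step of a gallery -/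
theorem Ch.last {n : ℕ} {g : G} (h : Ch M S W (n + 1) g) :
    ∃ P, IsParS S P ∧ ∃ p ∈ P, ∃ g', Ch M S W n g' ∧ g = g' * p := by
  obtain ⟨a, ha, haW, hg⟩ := h
  cases hg with
  | @step _ _ g' p P hg hP hp => exact ⟨P, hP, p, hp, g', ⟨a, ha, haW, hg⟩, rfl⟩

theorem Ch.mono {n k : ℕ} (hnk : n ≤ k) (hne : (PS S).Nonempty) {g : G} (h : Ch M S W n g) :
    Ch M S W k g := by
  obtain ⟨P, hP⟩ := hne
  induction hnk with
  | refl => exact h
  | step _ ih =>
    have := ih.mul hP (one_mem P)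
    rwa [mul_one] at this

end ch

namespace Fr

variable [Finite G] {S : Sylow 2 G} {M V F : Subgroup G} {n : ℕ} (h : Fr S M V F n)
include h

theorem sys : Sys (S : Subgroup G) (zc (S : Subgroup G)) (PS (S : Subgroup G)) :=
  FrameNOFF.sys h.hc S h.noff

/-- `C_{S^g}(V_P^g) ≤ S^{gp}` -/
theorem pass {P : Subgroup G} (hP : IsParS (S : Subgroup G) P) {g p : G} (hp : p ∈ P) {A : Subgroup G}
    (hA : A ≤ MulAut.conj g • (S : Subgroup G))
    (hc : A ≤ centralizer ((MulAut.conj g • zl (S : Subgroup G) P : Subgroup G) : Set G)) :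
    A ≤ MulAut.conj (g * p) • (S : Subgroup G) :=
  h.sys.pass hP hp hA fun _ hp' => comm_mono hc le_rfl (conj_Z_le hp')

theorem zl_le_V {P : Subgroup G} (hP : IsParS (S : Subgroup G) P) : zl (S : Subgroup G) P ≤ V :=
  MinSimple.VModule.zl_le h.ZV ((h.PM P hP).trans h.MV)

theorem conj_V {g : G} (hg : g ∈ M) : MulAut.conj g • V = V := NOne.Flat.conj_eq_of_norm (h.MV hg)

theorem line_le_V {g : G} (hg : g ∈ M) {P : Subgroup G} (hP : IsParS (S : Subgroup G) P) :
    MulAut.conj g • zl (S : Subgroup G) P ≤ V := by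
  rw [← h.conj_V hg]
  exact conj_le_iff.2 (h.zl_le_V hP)

theorem mem_M {j : ℕ} {g : G} (hg : Ch M (S : Subgroup G) (WW V F) j g) : g ∈ M := hg.mem h.PM

omit [Finite G] h in
theorem conj_conj_inv (x : G) (A : Subgroup G) : MulAut.conj x • (MulAut.conj x⁻¹ • A) = A := by
  rw [conj_conj, mul_inv_cancel, map_one, one_smul]

/-- `l^x ≤ S^{g'}`, from (GAL) for smaller distances -/
theorem gal_le {k : ℕ} (ih : ∀ m < k, ∀ i j : ℕ, i + j = m → i ≤ n → j ≤ n → ∀ g g' : G,
    Ch M (S : Subgroup G) (WW V F) i g → Ch M (S : Subgroup G) (WW V F) j g' →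
    ∀ P P' : Subgroup G, IsParS (S : Subgroup G) P → IsParS (S : Subgroup G) P' →
    MulAut.conj g • zl (S : Subgroup G) P ≤ EE V F → MulAut.conj g' • zl (S : Subgroup G) P' ≤ EE V F →
    ∀ x ∈ centralizer (F : Set G),
      MulAut.conj (x * g) • zl (S : Subgroup G) P ≤
        centralizer ((MulAut.conj g' • zl (S : Subgroup G) P' : Subgroup G) : Set G))
    {i : ℕ} (hi : i ≤ n) {g : G} (hg : Ch M (S : Subgroup G) (WW V F) i g)
    {P : Subgroup G} (hP : IsParS (S : Subgroup G) P) (hl : MulAut.conj g • zl (S : Subgroup G) P ≤ EE V F)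
    {x : G} (hx : x ∈ centralizer (F : Set G)) :
    ∀ j : ℕ, i + j ≤ k → j ≤ n → ∀ g' : G, Ch M (S : Subgroup G) (WW V F) j g' →
      MulAut.conj (x * g) • zl (S : Subgroup G) P ≤ MulAut.conj g' • (S : Subgroup G) := by
  intro j
  induction j with
  | zero =>
    intro _ _ g' hg'
    refine le_trans ?_ hg'.zero_le
    rw [← conj_conj]
    exact (conj_le_iff.2 hl).trans (NOne.Flat.Hyp.conjE_le_W hx)
  | succ j ihj =>
    intro hij hj g' hg'
    obtain ⟨P', hP', p, hp, g'', hg'', rfl⟩ := hg'.last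
    have h1 := h.least j (by omega) g'' hg'' P' hP'
    have h2 := ih (i + j) (by omega) i j rfl hi (by omega) g g'' hg hg'' P P' hP hP' hl h1 x hx
    exact h.pass hP' hp (ihj (by omega) (by omega) g'' hg'') h2

/-- **(GAL)** -/
theorem gal_aux (k : ℕ) : ∀ i j : ℕ, i + j = k → i ≤ n → j ≤ n → ∀ g g' : G,
    Ch M (S : Subgroup G) (WW V F) i g → Ch M (S : Subgroup G) (WW V F) j g' →
    ∀ P P' : Subgroup G, IsParS (S : Subgroup G) P → IsParS (S : Subgroup G) P' →
    MulAut.conj g • zl (S : Subgroup G) P ≤ EE V F → MulAut.conj g' • zl (S : Subgroup G) P' ≤ EE V F →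
    ∀ x ∈ centralizer (F : Set G),
      MulAut.conj (x * g) • zl (S : Subgroup G) P ≤
        centralizer ((MulAut.conj g' • zl (S : Subgroup G) P' : Subgroup G) : Set G) := by
  induction k using Nat.strong_induction_on with
  | _ k ih =>
    intro i j hij hi hj g g' hg hg' P P' hP hP' hl hl' x hx
    have h1 := h.gal_le ih hi hg hP hl hx j (by omega) hj g' hg'
    have h2 := h.gal_le ih hj hg' hP' hl' (inv_mem hx) i (by omega) hi g hg
    refine h.sys.noff' hP hP' (h1.trans (conj_le_iff.2 hP'.le)) ?_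
    have h3 := conj_le_iff (g := x).2 h2
    rw [conj_conj, conj_conj, mul_inv_cancel_left] at h3
    exact h3.trans (conj_le_iff.2 hP.le)

/-- **(GAL)**: good lines at distance `≤ n`: `[l^x, l'] = 1` for `x ∈ X`. -/
theorem gal {i j : ℕ} (hi : i ≤ n) (hj : j ≤ n) {g g' : G} (hg : Ch M (S : Subgroup G) (WW V F) i g)
    (hg' : Ch M (S : Subgroup G) (WW V F) j g') {P P' : Subgroup G} (hP : IsParS (S : Subgroup G) P)
    (hP' : IsParS (S : Subgroup G) P') (hl : MulAut.conj g • zl (S : Subgroup G) P ≤ EE V F)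
    (hl' : MulAut.conj g' • zl (S : Subgroup G) P' ≤ EE V F) {x : G} (hx : x ∈ centralizer (F : Set G)) :
    MulAut.conj (x * g) • zl (S : Subgroup G) P ≤
      centralizer ((MulAut.conj g' • zl (S : Subgroup G) P' : Subgroup G) : Set G) :=
  h.gal_aux _ i j rfl hi hj g g' hg hg' P P' hP hP' hl hl' x hx

/-- **(GAL)**: `l^x ≤ S^{g'}`. -/
theorem gal_le_S {i j : ℕ} (hi : i ≤ n) (hj : j ≤ n) {g g' : G} (hg : Ch M (S : Subgroup G) (WW V F) i g)
    (hg' : Ch M (S : Subgroup G) (WW V F) j g') {P : Subgroup G} (hP : IsParS (S : Subgroup G) P)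
    (hl : MulAut.conj g • zl (S : Subgroup G) P ≤ EE V F) {x : G} (hx : x ∈ centralizer (F : Set G)) :
    MulAut.conj (x * g) • zl (S : Subgroup G) P ≤ MulAut.conj g' • (S : Subgroup G) :=
  h.gal_le (k := i + j) (fun m _ => h.gal_aux m) hi hg hP hl hx j le_rfl hj g' hg'

/-! ### the group `B` -/

omit [Finite G] h in
theorem le_BB {l : Subgroup G} (hl : l ∈ Gd M (S : Subgroup G) V F n) {x : G}
    (hx : x ∈ centralizer (F : Set G)) : MulAut.conj x • l ≤ BB M (S : Subgroup G) V F n :=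
  le_sSup ⟨l, hl, x, hx, rfl⟩

omit [Finite G] h in
theorem le_BB' {l : Subgroup G} (hl : l ∈ Gd M (S : Subgroup G) V F n) :
    l ≤ BB M (S : Subgroup G) V F n := by
  have := le_BB hl (one_mem (centralizer (F : Set G)))
  rwa [map_one, one_smul] at this

omit [Finite G] h in
theorem BB_le {A : Subgroup G} (hA : ∀ l ∈ Gd M (S : Subgroup G) V F n, ∀ x ∈ centralizer (F : Set G),
    MulAut.conj x • l ≤ A) : BB M (S : Subgroup G) V F n ≤ A :=
  sSup_le (by rintro _ ⟨l, hl, x, hx, rfl⟩; exact hA l hl x hx)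

omit [Finite G] h in
theorem mem_Gd {j : ℕ} (hj : j ≤ n) {g : G} (hg : Ch M (S : Subgroup G) (WW V F) j g) {P : Subgroup G}
    (hP : IsParS (S : Subgroup G) P) (hl : MulAut.conj g • zl (S : Subgroup G) P ≤ EE V F) :
    MulAut.conj g • zl (S : Subgroup G) P ∈ Gd M (S : Subgroup G) V F n :=
  ⟨j, hj, g, hg, P, hP, rfl, hl⟩

/-- a line of a chamber at distance `< n` -/
theorem mem_Gd_of_lt {j : ℕ} (hj : j < n) {g : G} (hg : Ch M (S : Subgroup G) (WW V F) j g)
    {P : Subgroup G} (hP : IsParS (S : Subgroup G) P) :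
    MulAut.conj g • zl (S : Subgroup G) P ∈ Gd M (S : Subgroup G) V F n :=
  mem_Gd hj.le hg hP (h.least j hj g hg P hP)

omit [Finite G] h in
theorem conj_BB {y : G} (hy : y ∈ centralizer (F : Set G)) :
    MulAut.conj y • BB M (S : Subgroup G) V F n = BB M (S : Subgroup G) V F n := by
  have key : ∀ y ∈ centralizer (F : Set G),
      BB M (S : Subgroup G) V F n ≤ MulAut.conj y • BB M (S : Subgroup G) V F n := by
    intro y hy
    refine BB_le fun l hl x hx => ?_
    have h1 := le_BB hl (mul_mem (inv_mem hy) hx)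
    have h2 := conj_le_iff (g := y).2 h1
    rwa [conj_conj, mul_inv_cancel_left] at h2
  refine le_antisymm ?_ (key y hy)
  have h1 := conj_le_iff (g := y).2 (key y⁻¹ (inv_mem hy))
  rwa [conj_conj_inv] at h1

omit [Finite G] h in
/-- `X` normalises `B`. -/
theorem X_norm_B : centralizer (F : Set G) ≤ normalizer (BB M (S : Subgroup G) V F n : Set G) := by
  intro y hy
  rw [mem_normalizer_iff]
  intro b
  constructor
  · intro hb
    rw [← conj_BB hy, mem_conj]
    simpa [mul_assoc] using hb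
  · intro hb
    rw [← conj_BB hy, mem_conj] at hb
    simpa [mul_assoc] using hb

omit [Finite G] h in
/-- `B ≤ W` -/
theorem B_le_W : BB M (S : Subgroup G) V F n ≤ WW V F := by
  refine BB_le ?_
  rintro _ ⟨j, -, g, -, P, -, rfl, hl⟩ x hx
  exact (conj_le_iff.2 hl).trans (NOne.Flat.Hyp.conjE_le_W hx)

/-- `B` is abelian. -/
theorem B_comm : BB M (S : Subgroup G) V F n ≤ centralizer (BB M (S : Subgroup G) V F n : Set G) := by
  refine BB_le ?_
  rintro _ ⟨i, hi, g, hg, P, hP, rfl, hl⟩ x hx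
  refine comm_symm (BB_le ?_)
  rintro _ ⟨j, hj, g', hg', P', hP', rfl, hl'⟩ x' hx'
  refine comm_symm ?_
  have h1 := h.gal hi hj hg hg' hP hP' hl hl' (mul_mem (inv_mem hx') hx)
  have h2 := conj_le_centralizer (g := x') h1
  rwa [conj_conj, ← mul_assoc, mul_inv_cancel_left, ← conj_conj] at h2

theorem B_sq : ∀ b ∈ BB M (S : Subgroup G) V F n, b ^ 2 = 1 := by
  let K : Subgroup G :=
    { carrier := {b | b ∈ BB M (S : Subgroup G) V F n ∧ b ^ 2 = 1}
      one_mem' := ⟨one_mem _, one_pow _⟩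
      mul_mem' := by
        rintro a b ⟨ha, ha2⟩ ⟨hb, hb2⟩
        refine ⟨mul_mem ha hb, ?_⟩
        have hcm : Commute a b := (mem_centralizer_iff.1 (h.B_comm ha) b hb).symm
        rw [hcm.mul_pow, ha2, hb2, one_mul]
      inv_mem' := by
        rintro a ⟨ha, ha2⟩
        exact ⟨inv_mem ha, by rw [inv_pow, ha2, inv_one]⟩ }
  have h1 : BB M (S : Subgroup G) V F n ≤ K := by
    refine BB_le fun l hl x hx => ?_
    intro b hb
    refine ⟨le_BB hl hx hb, ?_⟩
    obtain ⟨j, -, g, -, P, -, rfl, hl'⟩ := hl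
    rw [mem_conj] at hb
    have h2 := h.hyp.sq _ (hl' hb).1
    have e : b ^ 2 = x * (x⁻¹ * b * x) ^ 2 * x⁻¹ := by rw [pow_two, pow_two]; group
    rw [e, h2]; group
  exact fun b hb => (h1 hb).2

/-- `B ≤ S^g` for every chamber `g` at distance `≤ n`. -/
theorem B_le_conj {j : ℕ} (hj : j ≤ n) {g : G} (hg : Ch M (S : Subgroup G) (WW V F) j g) :
    BB M (S : Subgroup G) V F n ≤ MulAut.conj g • (S : Subgroup G) := by
  refine BB_le ?_
  rintro _ ⟨i, hi, g', hg', P, hP, rfl, hl⟩ x hx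
  rw [conj_conj]
  exact h.gal_le_S hi hj hg' hg hP hl hx

/-- `B ≤ S` -/
theorem B_le_S : BB M (S : Subgroup G) V F n ≤ (S : Subgroup G) := by
  have := h.B_le_conj le_rfl h.one
  rwa [map_one, one_smul] at this

/-- A subgroup of `W` which centralises `B` is contained in `S^g` for every chamber `g` at distance `≤ n`. -/
theorem le_conj_of_cent {A : Subgroup G} (hA : A ≤ WW V F)
    (hAB : A ≤ centralizer (BB M (S : Subgroup G) V F n : Set G)) :
    ∀ j ≤ n, ∀ g : G, Ch M (S : Subgroup G) (WW V F) j g → A ≤ MulAut.conj g • (S : Subgroup G) := by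
  intro j
  induction j with
  | zero =>
    intro _ g hg
    exact hA.trans hg.zero_le
  | succ j ih =>
    intro hj g hg
    obtain ⟨P, hP, p, hp, g', hg', rfl⟩ := hg.last
    refine h.pass hP hp (ih (by omega) g' hg') ?_
    exact comm_mono hAB le_rfl (le_BB' (h.mem_Gd_of_lt (by omega) hg' hP))

/-- `C_W(B) ≤ S` -/
theorem cent_le_S : WW V F ⊓ centralizer (BB M (S : Subgroup G) V F n : Set G) ≤ (S : Subgroup G) := by
  have := h.le_conj_of_cent inf_le_left inf_le_right n le_rfl 1 h.one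
  rwa [map_one, one_smul] at this

/-! ### (B1) -/

theorem B_norm_V : BB M (S : Subgroup G) V F n ≤ normalizer (V : Set G) := B_le_W.trans h.hyp.W_norm_V

theorem V_norm_B : V ≤ normalizer (BB M (S : Subgroup G) V F n : Set G) := h.hyp.V_le_X.trans X_norm_B

/-- **(B1)** `[V, B] ≤ V ∩ B` -/
theorem comm_VB {v b : G} (hv : v ∈ V) (hb : b ∈ BB M (S : Subgroup G) V F n) :
    c v b ∈ V ⊓ BB M (S : Subgroup G) V F n := by
  refine ⟨h.hyp.c_memV hv (B_le_W hb), ?_⟩
  have h1 := (mem_normalizer_iff.1 (h.V_norm_B hv) b).1 hb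
  have e : c v b = v * b * v⁻¹ * b⁻¹ := NOne.NearFF.c_def v b
  rw [e]
  exact (BB M (S : Subgroup G) V F n).mul_mem h1 ((BB M (S : Subgroup G) V F n).inv_mem hb)

/-- the adjacent chamber at distance `n - 1` -/
theorem exists_adj {k : ℕ} (hn : n = k + 1) : ∃ R, IsParS (S : Subgroup G) R ∧ ∃ m ∈ R,
    Ch M (S : Subgroup G) (WW V F) k m := by
  have h1 := h.one
  rw [hn] at h1
  obtain ⟨R, hR, p, hp, g, hg, e⟩ := h1.last
  have e2 : g = p⁻¹ := eq_inv_of_mul_eq_one_left e.symm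
  refine ⟨R, hR, p⁻¹, R.inv_mem hp, ?_⟩
  rwa [← e2]

end Fr

end Cfsg.Agent.Omega.NOThreeL.Low
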