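import Cfsg.Agent.Omega.NOThreeL.Low.LA.Front

/-!
# THEOREM LOW (#19191, helper597), the setting

`S` a Sylow 2-subgroup, `M₀ = YS S = ⟨P*(S)⟩`, NO-3L with `C_Z(P) = 1` for all `P ∈ P*(S)`, not (A).

* `LFr S V F n` : the front (`Fr`) with `M = M₀`, `Ctx`, `Full`, `DataZ`, not (A);
* `cent_le_norm`, `conj_eq_of_inf` : (TI);
* `conj_WP_of_norm` : `N_G(Z)` normalises `WP S`;
* `LFr.splus` : **(S+)** a line `l` on the point `y = Z^g`, a point `y₀` of `l` with `y₀ ∩ F ≠ 1`: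
  `W_y ∩ X ≤ O₂(X)`;
* `LFr.good_of_le_one` : all lines of chambers at distance `≤ 1` are good;
* `LFr.spp` : **(S++)** `U = V_P ≰ E`: no point of a line on a point of `U` meets `F`;
* `exists_fr` : `V* = ⟨Z^M₀⟩ ≰ O₂(C_G(Z))` gives `F`, `n`, `P` with `LFr S V F n` and `V_P ≰ E`.
-/

set_option autoImplicit false

namespace Cfsg.Agent.Omega.NOThreeL.Low

open Subgroup Cfsg
open Cfsg.Agent.ZN hiding mem_zc le_o2 le_normalizer_o2 zl_le
open Cfsg.Agent.Omega.MinPar Cfsg.Agent.Omega.Frame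
open Cfsg.Agent.Omega.FrameNOFF
open Cfsg.Agent.Omega.NoFF.Basic (V conj_conj mem_conj conj_le_iff conj_le_centralizer comm_symm comm_mono
  Z_le_V V_le conj_V_mul Sys Gal conj_Z_le conj_self)
open Cfsg.Agent.Omega.NOne.Flat (EE WW Bad)
open Cfsg.Agent.Omega.NOne.NearFF (c)
open Cfsg.Agent.Omega.NOThreeL.Basic
open Cfsg.Agent.Omega.NOThreeL.Pair (conj_eq_of_mem conj_le_normalizer)
open Cfsg.Agent.Omega.NOThreeL.Star (YS)
open Cfsg.Agent.Omega.NO3b (Wc.Root Wc.VL Wc.ML)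
open Cfsg.Agent.Omega.Node.NO3L
open Cfsg.Agent.ZN.ChoiceSit (Syl exists_syl syl_conj)
open Cfsg.Agent.ZN.ChoiceBase (isPGroup_cj cj)
open Cfsg.Agent.MinSimple.VModule (zc_le_zl zc_le zl_le_zc o2_isPGroup le_normalizer_o2
  mem_zc le_o2 o2_le le_centralizer_zc zc_sq normalizer_le_normalizer_zc)
open scoped Pointwise

universe u

variable {G : Type u} [Group G] [Finite G]

/-! ### (TI) -/

section ti

variable {S : Sylow 2 G}

/-- `C_G(z) ≤ N_G(Z)` for `1 ≠ z ∈ Z` -/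
theorem cent_le_norm (D : DataZ (S : Subgroup G)) {z : G} (hz : z ∈ zc (S : Subgroup G)) (hz1 : z ≠ 1) :
    centralizer ({z} : Set G) ≤ normalizer (zc (S : Subgroup G) : Set G) := by
  refine RTools.le_normalizer S hz hz1 fun P hP hPz => hz1 ?_
  have h1 : z ∈ zc (S : Subgroup G) ⊓ centralizer (P : Set G) :=
    mem_inf.2 ⟨hz, mem_centralizer_iff.2 fun p hp => (mem_centralizer_iff.1 (hPz hp) z rfl).symm⟩
  rw [D.cz P hP, mem_bot] at h1
  exact h1

/-- TI -/
theorem conj_eq_of_inf (D : DataZ (S : Subgroup G)) {g h : G}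
    (hne : MulAut.conj g • zc (S : Subgroup G) ⊓ MulAut.conj h • zc (S : Subgroup G) ≠ ⊥) :
    MulAut.conj g • zc (S : Subgroup G) = MulAut.conj h • zc (S : Subgroup G) := by
  have h1 := RTools.ti_of_cz S D.cz (h⁻¹ * g) (fun h0 => hne (by
    have h2 := congrArg (fun A : Subgroup G => MulAut.conj h • A) h0
    simp only [Subgroup.smul_inf, conj_conj, mul_inv_cancel_left, Subgroup.smul_bot] at h2
    rwa [inf_comm] at h2))
  have h2 := congrArg (fun A : Subgroup G => MulAut.conj h • A) h1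
  simpa only [conj_conj, mul_inv_cancel_left] using h2

omit [Finite G] in
theorem mem_norm_CZ {x : G} (hx : x ∈ normalizer (zc (S : Subgroup G) : Set G)) :
    MulAut.conj x • CZ (S : Subgroup G) = CZ (S : Subgroup G) := by
  rw [NOne.Flat.conj_centralizer, NOne.Flat.conj_eq_of_norm hx]

/-- `N_G(Z)` normalises `WP S`. -/
theorem conj_WP_of_norm {x : G} (hx : x ∈ normalizer (zc (S : Subgroup G) : Set G)) :
    MulAut.conj x • WP (S : Subgroup G) = WP (S : Subgroup G) := by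
  have hSC : (S : Subgroup G) ≤ CZ (S : Subgroup G) := le_CZ S
  have h1 : Syl (S : Subgroup G) (CZ (S : Subgroup G)) := MinSimple.EmptyTI.syl_of_le hSC
  have h2 : Syl (cj x (S : Subgroup G)) (CZ (S : Subgroup G)) := by
    have h3 : Syl (cj x (S : Subgroup G)) (MulAut.conj x • CZ (S : Subgroup G)) := by
      have h4 : cj x (S : Subgroup G) = ((x • S : Sylow 2 G) : Subgroup G) := rfl
      rw [h4]
      refine MinSimple.EmptyTI.syl_of_le (S := x • S) ?_
      exact conj_le_iff.2 hSC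
    rwa [mem_norm_CZ hx] at h3
  obtain ⟨d, hd, h3⟩ := syl_conj h1 h2
  have h4 : d⁻¹ * x ∈ normalizer ((S : Subgroup G) : Set G) := by
    have h5 : MulAut.conj (d⁻¹ * x) • (S : Subgroup G) = S := by
      rw [← conj_conj]
      have h6 : MulAut.conj x • (S : Subgroup G) = cj d (S : Subgroup G) := h3.symm
      rw [h6]
      exact ZN.ChoiceBase.cj_inv_cj d _
    rw [mem_normalizer_iff]
    intro y
    constructor
    · intro hy
      rw [← h5, mem_conj]
      simpa [mul_assoc] using hy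
    · intro hy
      rw [← h5, mem_conj] at hy
      simpa [mul_assoc] using hy
  have e : x = d * (d⁻¹ * x) := by group
  rw [e, ← conj_conj, RTools.conj_WP_of_normalizer S h4, conj_WP hd]

/-- `WP` of a point depends only on the point. -/
theorem conj_WP_congr {g h : G} (e : MulAut.conj g • zc (S : Subgroup G) = MulAut.conj h • zc (S : Subgroup G)) :
    MulAut.conj g • WP (S : Subgroup G) = MulAut.conj h • WP (S : Subgroup G) := by
  have h1 : h⁻¹ * g ∈ normalizer (zc (S : Subgroup G) : Set G) := by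
    have h2 := congrArg (fun A : Subgroup G => MulAut.conj h⁻¹ • A) e
    simp only [conj_conj, inv_mul_cancel, map_one, one_smul] at h2
    rw [mem_normalizer_iff]
    intro y
    constructor
    · intro hy
      rw [← h2, mem_conj]
      simpa [mul_assoc] using hy
    · intro hy
      rw [← h2, mem_conj] at hy
      simpa [mul_assoc] using hy
  have h2 := congrArg (fun A : Subgroup G => MulAut.conj h • A) (conj_WP_of_norm h1)
  simpa only [conj_conj, mul_inv_cancel_left] using h2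

end ti

/-- **The setting of THEOREM LOW.** -/
structure LFr (S : Sylow 2 G) (V F : Subgroup G) (n : ℕ) : Prop extends
    Fr S (YS (S : Subgroup G)) V F n where
  ctx : Ctx G
  full : Full (S : Subgroup G)
  dz : DataZ (S : Subgroup G)
  notA : ¬ CaseA (S : Subgroup G)
  root : Wc.Root S (YS (S : Subgroup G))
  eq : V = Wc.VL (S : Subgroup G) (YS (S : Subgroup G))

/-- **(S+)**, without the front: `F` arbitrary. -/
theorem splus {S : Sylow 2 G} (D : DataZ (S : Subgroup G)) (hA : ¬ CaseA (S : Subgroup G)) {F : Subgroup G}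
    {P : Subgroup G} (hP : IsParS (S : Subgroup G) P) {g p : G} (hp : p ∈ P)
    (hne : MulAut.conj (g * p) • zc (S : Subgroup G) ⊓ F ≠ ⊥) :
    MulAut.conj g • WP (S : Subgroup G) ⊓ centralizer (F : Set G) ≤ o2 (centralizer (F : Set G)) := by
  obtain ⟨⟨d, hd⟩, hd0⟩ := Subgroup.ne_bot_iff_exists_ne_one.1 hne
  have hd1 : d ≠ 1 := fun h0 => hd0 (Subtype.ext h0)
  obtain ⟨hdz, hdF⟩ := mem_inf.1 hd
  set y : G := g * p with hy
  have hz : y⁻¹ * d * y ∈ zc (S : Subgroup G) := mem_conj.1 hdz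
  have hz1 : y⁻¹ * d * y ≠ 1 := fun h0 => hd1 (by
    have h1 := congrArg (fun t => y * t * y⁻¹) h0
    simpa [mul_assoc] using h1)
  -- `X` normalises the point `y₀`
  have hX : ∀ x ∈ centralizer (F : Set G), y⁻¹ * x * y ∈ normalizer (zc (S : Subgroup G) : Set G) := by
    intro x hx
    refine cent_le_norm D hz hz1 ?_
    rw [mem_centralizer_iff]
    rintro _ rfl
    have h1 := mem_centralizer_iff.1 hx d hdF
    have e1 : y⁻¹ * d * y * (y⁻¹ * x * y) = y⁻¹ * (d * x) * y := by group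
    have e2 : y⁻¹ * x * y * (y⁻¹ * d * y) = y⁻¹ * (x * d) * y := by group
    rw [e1, e2, h1]
  set Q : Subgroup G := MulAut.conj y • o2 (CZ (S : Subgroup G)) with hQ
  have hQ2 : IsPGroup 2 Q := isPGroup_cj y (o2_isPGroup _)
  have hXQ : ∀ x ∈ centralizer (F : Set G), MulAut.conj x • Q = Q := by
    intro x hx
    have h1 : MulAut.conj (y⁻¹ * x * y) • o2 (CZ (S : Subgroup G)) = o2 (CZ (S : Subgroup G)) := by
      rw [NOne.Flat.o2_conj, mem_norm_CZ (hX x hx)]
    have h2 := congrArg (fun A : Subgroup G => MulAut.conj y • A) h1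
    simp only [conj_conj] at h2
    rw [hQ, conj_conj, ← h2]
    congr 1
    group
  have hW : MulAut.conj g • WP (S : Subgroup G) ≤ Q := by
    have hL := D.loc P hP
    have h1 := NotA.WP_le D.toData hA hL
    have h2 : MulAut.conj p • o2 (P ⊔ CZ (S : Subgroup G)) = o2 (P ⊔ CZ (S : Subgroup G)) :=
      conj_eq_of_mem (le_normalizer_o2 _ (mem_sup_left hp))
    calc MulAut.conj g • WP (S : Subgroup G) ≤ MulAut.conj g • o2 (P ⊔ CZ (S : Subgroup G)) :=
          conj_le_iff.2 h1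
      _ = MulAut.conj y • o2 (P ⊔ CZ (S : Subgroup G)) := by
          rw [hy, ← conj_conj, h2]
      _ ≤ Q := conj_le_iff.2 (hL.o2_le S)
  refine (inf_le_inf_right _ hW).trans (le_o2 inf_le_right (hQ2.to_le inf_le_left) ?_)
  intro x hx
  rw [mem_normalizer_iff]
  have key : ∀ x ∈ centralizer (F : Set G), ∀ b ∈ Q ⊓ centralizer (F : Set G),
      x * b * x⁻¹ ∈ Q ⊓ centralizer (F : Set G) := by
    intro x hx b hb
    refine ⟨?_, (centralizer (F : Set G)).mul_mem ((centralizer (F : Set G)).mul_mem hx hb.2)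
      ((centralizer (F : Set G)).inv_mem hx)⟩
    change x * b * x⁻¹ ∈ Q
    rw [← hXQ x hx, mem_conj]
    have : x⁻¹ * (x * b * x⁻¹) * x = b := by group
    rw [this]
    exact hb.1
  intro b
  refine ⟨key x hx b, fun hb => ?_⟩
  have h1 := key x⁻¹ (inv_mem hx) _ hb
  have e : x⁻¹ * (x * b * x⁻¹) * x⁻¹⁻¹ = b := by group
  rwa [e] at h1

/-- **(S++)**, for any frame `V`, `F`. -/
theorem spp {S : Sylow 2 G} (D : DataZ (S : Subgroup G)) (hA : ¬ CaseA (S : Subgroup G)) {V F : Subgroup G}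
    (hyp : NOne.Flat.Hyp V F) {P : Subgroup G} (hP : IsParS (S : Subgroup G) P)
    (hUV : zl (S : Subgroup G) P ≤ V) (hU : ¬ zl (S : Subgroup G) P ≤ EE V F)
    {p g : G} (hp : p ∈ P) (hg : MulAut.conj g • zc (S : Subgroup G) = MulAut.conj p • zc (S : Subgroup G))
    {P' : Subgroup G} (hP' : IsParS (S : Subgroup G) P') {p' : G} (hp' : p' ∈ P') :
    MulAut.conj (g * p') • zc (S : Subgroup G) ⊓ F = ⊥ := by
  by_contra hne
  have h1 := splus D hA hP' hp' hne
  rw [conj_WP_congr hg] at h1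
  apply hU
  refine le_inf hUV ?_
  refine (le_inf ?_ (hUV.trans hyp.V_le_X)).trans h1
  have h2 := conj_le_iff (g := p).2 (zl_le_WP hP)
  rwa [zl_conj_eq hp] at h2

namespace LFr

variable {S : Sylow 2 G} {V F : Subgroup G} {n : ℕ} (h : LFr S V F n)
include h

/-- **(S+)** -/
theorem splus {P : Subgroup G} (hP : IsParS (S : Subgroup G) P) {g p : G} (hp : p ∈ P)
    (hne : MulAut.conj (g * p) • zc (S : Subgroup G) ⊓ F ≠ ⊥) :
    MulAut.conj g • WP (S : Subgroup G) ⊓ centralizer (F : Set G) ≤ o2 (centralizer (F : Set G)) :=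
  Low.splus h.dz h.notA hP hp hne

/-- **(S++)**: `U = V_P ≰ E`: no point `Z^{gp'}` of a line `V_{P'}^g` on a point `Z^g = Z^p` of `U` meets `F`. -/
theorem spp {P : Subgroup G} (hP : IsParS (S : Subgroup G) P) (hU : ¬ zl (S : Subgroup G) P ≤ EE V F)
    {p g : G} (hp : p ∈ P) (hg : MulAut.conj g • zc (S : Subgroup G) = MulAut.conj p • zc (S : Subgroup G))
    {P' : Subgroup G} (hP' : IsParS (S : Subgroup G) P') {p' : G} (hp' : p' ∈ P') :
    MulAut.conj (g * p') • zc (S : Subgroup G) ⊓ F = ⊥ :=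
  Low.spp h.dz h.notA h.hyp hP (h.zl_le_V hP) hU hp hg hP' hp'

/-- (S++) for the points of `U` itself. -/
theorem point_inf {P : Subgroup G} (hP : IsParS (S : Subgroup G) P) (hU : ¬ zl (S : Subgroup G) P ≤ EE V F)
    {p : G} (hp : p ∈ P) : MulAut.conj p • zc (S : Subgroup G) ⊓ F = ⊥ := by
  have := h.spp hP hU hp rfl hP (one_mem P)
  rwa [mul_one] at this

/-- `Z ∩ F = 1` -/
theorem Z_inf {P : Subgroup G} (hP : IsParS (S : Subgroup G) P) (hU : ¬ zl (S : Subgroup G) P ≤ EE V F) :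
    zc (S : Subgroup G) ⊓ F = ⊥ := by
  have := h.point_inf hP hU (one_mem P)
  rwa [map_one, one_smul] at this

end LFr

/-! ### Existence -/

theorem zc_ne_bot {S : Sylow 2 G} (hG : Ctx G) : zc (S : Subgroup G) ≠ ⊥ :=
  MinSimple.Basic.zc_ne_bot S.isPGroup' (hG.sylow_ne_bot S)

/-- All lines of chambers at distance `≤ 1` are good. -/
theorem good_of_le_one {S : Sylow 2 G} (hG : Ctx G) (D : DataZ (S : Subgroup G))
    (hA : ¬ CaseA (S : Subgroup G)) {M V F : Subgroup G} (hyp : NOne.Flat.Hyp V F)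
    (PM : ∀ P, IsParS (S : Subgroup G) P → P ≤ M) (MV : M ≤ normalizer (V : Set G))
    (ZV : zc (S : Subgroup G) ≤ V) {g : G} (hg : Ch M (S : Subgroup G) (WW V F) 1 g)
    {P : Subgroup G} (hP : IsParS (S : Subgroup G) P) :
    MulAut.conj g • zl (S : Subgroup G) P ≤ EE V F := by
  have hgM := hg.mem PM
  obtain ⟨P', hP', p, hp, g', hg', rfl⟩ := hg.last
  have hg'M := hg'.mem PM
  have h1 : MulAut.conj g' • zc (S : Subgroup G) ≤ F := by
    rw [← hyp.cent_VW]
    refine le_inf ?_ ?_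
    · have h2 := conj_le_iff (g := g').2 ZV
      rwa [NOne.Flat.conj_eq_of_norm (MV hg'M)] at h2
    · refine comm_symm (hg'.zero_le.trans ?_)
      refine conj_le_centralizer ?_
      exact fun s hs => mem_centralizer_iff.mpr fun z hz => ((mem_zc.mp hz).2.1 s hs).symm
  have h2 := splus (F := F) D hA hP' (g := g' * p) (P'.inv_mem hp) (by
    rw [mul_inv_cancel_right, inf_eq_left.2 h1]
    intro h0
    apply zc_ne_bot (S := S) hG
    have h3 := congrArg (fun A : Subgroup G => MulAut.conj g'⁻¹ • A) h0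
    simpa only [conj_conj, inv_mul_cancel, map_one, one_smul, Subgroup.smul_bot] using h3)
  have hV : MulAut.conj (g' * p) • zl (S : Subgroup G) P ≤ V := by
    have h3 := conj_le_iff (g := g' * p).2
      (MinSimple.VModule.zl_le ZV ((PM P hP).trans MV) : zl (S : Subgroup G) P ≤ V)
    rwa [NOne.Flat.conj_eq_of_norm (MV hgM)] at h3
  exact le_inf hV ((le_inf (conj_le_iff.2 (zl_le_WP hP)) (hV.trans hyp.V_le_X)).trans h2)

/-- **PRINCIPLE**: a maximal bad `F` with `W_F ≤ S`, `[V_L, W_F] ≠ 1`. -/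
theorem exists_max_bad {S : Sylow 2 G} {L : Subgroup G} (h : Wc.Root S L) (hc : IsCharacteristicTwoType G)
    {F₀ : Subgroup G} (hF₀ : Bad (Wc.VL (S : Subgroup G) L) F₀) :
    ∃ F, NOne.Flat.Hyp (Wc.VL (S : Subgroup G) L) F ∧ WW (Wc.VL (S : Subgroup G) L) F ≤ (S : Subgroup G) ∧
      ¬ WW (Wc.VL (S : Subgroup G) L) F ≤ centralizer (zl (S : Subgroup G) L : Set G) := by
  obtain ⟨F, -, hF, hmax⟩ := NOne.Flat.exists_max hF₀
  have hfl := h.flatHyp hc hF hmax
  have hWM : WW (Wc.VL (S : Subgroup G) L) F ≤ Wc.ML (S : Subgroup G) L :=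
    NOne.Flat.Hyp.W_le_R.trans (h.o2_cent_le hF.le)
  have hW2 : IsPGroup 2 (WW (Wc.VL (S : Subgroup G) L) F : Subgroup G) :=
    (o2_isPGroup _).to_le NOne.Flat.Hyp.W_le_R
  obtain ⟨m, hm, hmW⟩ := h.exists_conj_le hW2 hWM
  have hmN := NO3b.Wc.ML_le_norm_V (S : Subgroup G) L hm
  obtain ⟨X, ⟨F', hF', hmax', rfl⟩, hXS, hXL⟩ := h.principle
    (F := NO3b.Union.badFam (Wc.VL (S : Subgroup G) L))
    (fun A hA n hn => NO3b.Union.badFam_cj (NO3b.Wc.ML_le_norm_V (S : Subgroup G) L hn) hA)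
    (NO3b.Union.badFam_cj hmN ⟨F, hF, hmax, rfl⟩) hmW (fun h1 => NO3b.Union.not_WW_le hfl (by
        rw [ZN.ChoiceBase.cj_le_iff, ZN.ChoiceBase.cj_centralizer,
          ZN.ChoiceBase.cj_eq_of_mem_normalizer (inv_mem hmN)] at h1
        exact h1))
  exact ⟨F', h.flatHyp hc hF' hmax', hXS, hXL⟩

omit [Finite G] in
/-- The elements of `⟨P*(S)⟩` are reached by galleries. -/
theorem exists_gal {S : Subgroup G} {y : G} (hy : y ∈ YS S) : ∃ k, Gal (PS S) k 1 y := by
  have hy' : y ∈ ⨆ P : {P : Subgroup G // IsParS S P}, (P : Subgroup G) := by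
    unfold NOThreeL.Star.YS at hy
    rwa [sSup_eq_iSup'] at hy
  refine Subgroup.iSup_induction (S := fun P : {P : Subgroup G // IsParS S P} => (P : Subgroup G))
    (C := fun y => ∃ k, Gal (PS S) k 1 y) hy' ?_ ?_ ?_
  · rintro ⟨P, hP⟩ p hp
    have := Gal.one (F := PS S) hP (g := 1) hp
    rw [one_mul] at this
    exact ⟨1, this⟩
  · exact ⟨0, Gal.zero _⟩
  · rintro x y ⟨k, hk⟩ ⟨l, hl⟩
    have h1 := hl.mul_left x
    rw [mul_one] at h1
    exact ⟨k + l, hk.trans h1⟩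

/-- **The front exists**, for any frame `V`, `F` with `W_F ≤ S`, `V* ≰ E`. -/
theorem exists_fr_of {S : Sylow 2 G} (hG : Ctx G) (hF : Full (S : Subgroup G)) (D : DataZ (S : Subgroup G))
    (hA : ¬ CaseA (S : Subgroup G)) {V F : Subgroup G} (hyp : NOne.Flat.Hyp V F)
    (hMV : YS (S : Subgroup G) ≤ normalizer (V : Set G)) (hZV : zc (S : Subgroup G) ≤ V)
    (hWS : WW V F ≤ (S : Subgroup G)) (hnE : ¬ zl (S : Subgroup G) (YS (S : Subgroup G)) ≤ EE V F) :
    ∃ (F' : Subgroup G) (n : ℕ) (P : Subgroup G), Fr S (YS (S : Subgroup G)) V F' n ∧ 2 ≤ n ∧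
      IsParS (S : Subgroup G) P ∧ ¬ zl (S : Subgroup G) P ≤ EE V F' := by
  have hPM : ∀ P, IsParS (S : Subgroup G) P → P ≤ YS (S : Subgroup G) := fun P hP => NOThreeL.Star.le_YS hP
  obtain ⟨P₀, hP₀⟩ := hG.exists_isParS hF
  -- some chamber has a bad line
  have hex : ∃ n : ℕ, ∃ g, Ch (YS (S : Subgroup G)) (S : Subgroup G) (WW V F) n g ∧
      ∃ P, IsParS (S : Subgroup G) P ∧ ¬ MulAut.conj g • zl (S : Subgroup G) P ≤ EE V F := by
    by_contra hcon
    push Not at hcon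
    apply hnE
    refine iSup_le fun y => ?_
    obtain ⟨k, hk⟩ := exists_gal y.2
    have h1 := hcon k y ⟨1, one_mem _, by rwa [map_one, one_smul], hk⟩ P₀ hP₀
    exact (conj_le_iff.2 (zc_le_zl (S : Subgroup G) P₀)).trans h1
  classical
  obtain ⟨g, hg, P, hP, hPE⟩ := Nat.find_spec hex
  have hmin := fun j (hj : j < Nat.find hex) => Nat.find_min hex hj
  set n := Nat.find hex with hn
  have hgM := hg.mem hPM
  have hgV := hMV hgM
  have hgV' : g⁻¹ ∈ normalizer (V : Set G) := inv_mem hgV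
  have eW : WW V (MulAut.conj g⁻¹ • F) = MulAut.conj g⁻¹ • WW V F := (NOne.Flat.WW_conj hgV').symm
  have eE : EE V (MulAut.conj g⁻¹ • F) = MulAut.conj g⁻¹ • EE V F := (NOne.Flat.EE_conj hgV').symm
  -- chambers for `F^{g⁻¹}`
  have hCh : ∀ j x, Ch (YS (S : Subgroup G)) (S : Subgroup G) (WW V (MulAut.conj g⁻¹ • F)) j x →
      Ch (YS (S : Subgroup G)) (S : Subgroup G) (WW V F) j (g * x) := by
    rintro j x ⟨a, ha, haW, hax⟩
    refine ⟨g * a, mul_mem hgM ha, ?_, hax.mul_left g⟩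
    rw [eW] at haW
    have h1 := conj_le_iff (g := g).2 haW
    rwa [conj_conj, mul_inv_cancel, map_one, one_smul, conj_conj] at h1
  have hCh' : Ch (YS (S : Subgroup G)) (S : Subgroup G) (WW V (MulAut.conj g⁻¹ • F)) n 1 := by
    obtain ⟨a, ha, haW, hag⟩ := hg
    refine ⟨g⁻¹ * a, mul_mem (inv_mem hgM) ha, ?_, ?_⟩
    · rw [eW, ← conj_conj]
      exact conj_le_iff.2 haW
    · have := hag.mul_left g⁻¹
      rwa [inv_mul_cancel] at this
  have hbad : ¬ zl (S : Subgroup G) P ≤ EE V (MulAut.conj g⁻¹ • F) := by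
    intro h1
    apply hPE
    rw [eE] at h1
    have h2 := conj_le_iff (g := g).2 h1
    rwa [conj_conj, mul_inv_cancel, map_one, one_smul] at h2
  have hyp' := hyp.conj hgV'
  refine ⟨MulAut.conj g⁻¹ • F, n, P, ⟨hG.char2, D.noff, hyp', hPM, hMV, hZV, ?_, hCh'⟩, ?_, hP, hbad⟩
  · intro j hj x hx Q hQ
    by_contra hcon
    refine hmin j hj ⟨g * x, hCh j x hx, Q, hQ, fun h1 => hcon ?_⟩
    rw [eE]
    have h2 := conj_le_iff (g := g⁻¹).2 h1
    rwa [conj_conj, inv_mul_cancel_left] at h2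
  · by_contra hlt
    have h1 := hCh'.mono (k := 1) (by omega) ⟨P₀, hP₀⟩
    have h2 := good_of_le_one hG D hA hyp' hPM hMV hZV h1 hP
    rw [map_one, one_smul] at h2
    exact hbad h2

/-- The root of the w.c. frame for `M₀ = ⟨P*(S)⟩` (THEOREM NF). -/
theorem root_YS {S : Sylow 2 G} (hG : Ctx G) (hF : Full (S : Subgroup G)) (D : DataZ (S : Subgroup G)) :
    Wc.Root S (YS (S : Subgroup G)) :=
  MergeNF.root_of_isLoc hG.char2 (NOThreeL.Star.isLoc hG.char2 D.noff (NOThreeL.Star.S_le_YS hG hF)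
    (hG.sylow_ne_bot S)) (NOThreeL.Star.cs_le_o2 hG.char2 (NOThreeL.Star.S_le_YS hG hF)) (NF.notFF hG hF D)

/-- **The frame exists**: a maximal bad `F` of `V = VL S M₀` with `W_F ≤ S`, `V* ≰ E`. -/
theorem exists_frame {S : Sylow 2 G} (hG : Ctx G) (hF : Full (S : Subgroup G)) (D : DataZ (S : Subgroup G))
    (hlow : ¬ zl (S : Subgroup G) (YS (S : Subgroup G)) ≤ o2 (CZ (S : Subgroup G))) :
    ∃ F : Subgroup G, NOne.Flat.Hyp (Wc.VL (S : Subgroup G) (YS (S : Subgroup G))) F ∧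
      WW (Wc.VL (S : Subgroup G) (YS (S : Subgroup G))) F ≤ (S : Subgroup G) ∧
      ¬ zl (S : Subgroup G) (YS (S : Subgroup G)) ≤
        EE (Wc.VL (S : Subgroup G) (YS (S : Subgroup G))) F := by
  have root := root_YS hG hF D
  obtain ⟨F, hyp, hWS, hWL⟩ := exists_max_bad root hG.char2 (F₀ := zc (S : Subgroup G))
    ⟨zc_ne_bot hG, NO3b.Wc.Root.zc_le_V, fun h1 => hlow (root.zl_le_V.trans h1)⟩
  exact ⟨F, hyp, hWS, fun h1 =>
    hWL (hyp.cent_of_le_EE (Spread.Plug.stmtOff G _ _ hyp) (root.not_offM hWS) h1).1⟩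

/-- **The front exists.** -/
theorem exists_fr {S : Sylow 2 G} (hG : Ctx G) (hF : Full (S : Subgroup G)) (D : DataZ (S : Subgroup G))
    (hA : ¬ CaseA (S : Subgroup G))
    (hlow : ¬ zl (S : Subgroup G) (YS (S : Subgroup G)) ≤ o2 (CZ (S : Subgroup G))) :
    ∃ (F : Subgroup G) (n : ℕ) (P : Subgroup G),
      LFr S (Wc.VL (S : Subgroup G) (YS (S : Subgroup G))) F n ∧ 2 ≤ n ∧ IsParS (S : Subgroup G) P ∧
        ¬ zl (S : Subgroup G) P ≤ EE (Wc.VL (S : Subgroup G) (YS (S : Subgroup G))) F := by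
  obtain ⟨F, hyp, hWS, hnE⟩ := exists_frame hG hF D hlow
  have root := root_YS hG hF D
  obtain ⟨F', n, P, h1, h2, h3, h4⟩ := exists_fr_of hG hF D hA hyp
    (root.L_le.trans (NO3b.Wc.ML_le_norm_V _ _)) NO3b.Wc.Root.zc_le_V hWS hnE
  exact ⟨F', n, P, ⟨h1, hG, hF, D, hA, root, rfl⟩, h2, h3, h4⟩

end Cfsg.Agent.Omega.NOThreeL.Low
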